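import Groth.Agent.GLat.K974.Perm
import Mathlib.RingTheory.Noetherian.Basic
import Mathlib.RingTheory.PrincipalIdealDomain
import Mathlib.LinearAlgebra.FreeModule.PID
import Mathlib.Algebra.Group.Subgroup.Finite
import Mathlib.Algebra.Module.CharacterModule
import Mathlib.LinearAlgebra.Dual.Lemmas

/-!
# Permutation covers surjective on invariants; coflasque covers
-/

set_option autoImplicit false

namespace K974.Cover

open GLat K974.Perm

/-- The permutation representation on functions on a `G`-set. -/
def permRep (G : Type*) (ι : Type*) [Group G] [MulAction G ι] : Representation ℤ G (ι → ℤ) where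
  toFun g := LinearMap.funLeft ℤ ℤ (fun i => g⁻¹ • i)
  map_one' := by
    refine LinearMap.ext fun f => funext fun i => ?_
    rw [LinearMap.funLeft_apply, inv_one, one_smul]
    rfl
  map_mul' g h := by
    refine LinearMap.ext fun f => funext fun i => ?_
    rw [Module.End.mul_apply, LinearMap.funLeft_apply, LinearMap.funLeft_apply,
      LinearMap.funLeft_apply, mul_inv_rev, mul_smul]

section

variable {G : Type*} {ι : Type*} [Group G] [MulAction G ι]

lemma permRep_apply (g : G) (f : ι → ℤ) (i : ι) : permRep G ι g f i = f (g⁻¹ • i) := rfl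

lemma permRep_single [DecidableEq ι] (g : G) (i : ι) :
    permRep G ι g (Pi.single i 1) = Pi.single (g • i) 1 := by
  funext j
  rw [permRep_apply]
  by_cases h : j = g • i
  · subst h
    rw [inv_smul_smul, Pi.single_eq_same, Pi.single_eq_same]
  · rw [Pi.single_eq_of_ne h, Pi.single_eq_of_ne]
    intro h'
    exact h (by rw [← h', smul_inv_smul])

end

lemma isPermutation_permRep {G : Type*} {ι : Type} [Group G] [MulAction G ι] [Finite ι] :
    IsPermutation (permRep G ι) := by
  classical
  refine ⟨ι, Pi.basisFun ℤ ι, fun g i => ⟨g • i, ?_⟩⟩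
  rw [Pi.basisFun_apply, Pi.basisFun_apply, permRep_single]

/-- A finitely generated `G`-module is covered by a finite `G`-set whose `H`-fixed elements
generate the `H`-invariants for every subgroup `H`. -/
theorem exists_cover (G : Type) [Group G] [Finite G] (A : Type) [AddCommGroup A]
    [Module.Finite ℤ A] (ρ : Representation ℤ G A) :
    ∃ (ι : Type) (_ : Finite ι) (_ : MulAction G ι) (v : ι → A),
      (∀ (g : G) (i : ι), v (g • i) = ρ g (v i)) ∧
      ∀ (H : Subgroup G) (x : A), (∀ h : H, ρ (h : G) x = x) →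
        x ∈ Submodule.span ℤ (v '' {i | ∀ h : H, (h : G) • i = i}) := by
  classical
  let inv : Subgroup G → Submodule ℤ A := fun H =>
    { carrier := {x | ∀ h : H, ρ (h : G) x = x}
      add_mem' := fun {x y} hx hy h => by rw [map_add, hx h, hy h]
      zero_mem' := fun h => map_zero _
      smul_mem' := fun c x hx h => by rw [map_smul, hx h] }
  have hfg : ∀ H, (inv H).FG := fun H => IsNoetherian.noetherian _
  choose T hT using hfg
  let S : Set A := ⋃ (g : G) (H : Subgroup G), (ρ g) '' (T H : Set A)
  have _ : Finite (Subgroup G) :=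
    Finite.of_injective (fun H => (H : Set G)) SetLike.coe_injective
  have hS : S.Finite := Set.finite_iUnion fun g => Set.finite_iUnion fun H =>
    (Finset.finite_toSet _).image _
  have hmem : ∀ (g : G) (x : A), x ∈ S → ρ g x ∈ S := by
    intro g x hx
    simp only [S, Set.mem_iUnion] at hx ⊢
    obtain ⟨g', H, t, ht, rfl⟩ := hx
    exact ⟨g * g', H, t, ht, by rw [map_mul, Module.End.mul_apply]⟩
  let act : MulAction G S :=
    { smul := fun g s => ⟨ρ g s.1, hmem g _ s.2⟩
      one_smul := fun s => Subtype.ext (by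
        change ρ 1 s.1 = s.1
        rw [map_one]; rfl)
      mul_smul := fun g h s => Subtype.ext (by
        change ρ (g * h) s.1 = ρ g (ρ h s.1)
        rw [map_mul, Module.End.mul_apply]) }
  refine ⟨S, hS.to_subtype, act, Subtype.val, fun g i => rfl, fun H x hx => ?_⟩
  have hx' : x ∈ inv H := hx
  rw [← hT H] at hx'
  refine Submodule.span_mono ?_ hx'
  intro t ht
  have htS : t ∈ S := by
    simp only [S, Set.mem_iUnion]
    exact ⟨1, H, t, ht, by rw [map_one]; rfl⟩
  refine ⟨⟨t, htS⟩, fun h => Subtype.ext ?_, rfl⟩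
  have ht' : t ∈ inv H := by rw [← hT H]; exact Submodule.subset_span ht
  exact ht' h

/-- `0 → Q → P → A → 0` with `P` permutation and `Q` coflasque. -/
theorem exists_coflasque_cover (G : Type) [Group G] [Finite G]
    (A : Type) [AddCommGroup A] [Module.Finite ℤ A] (ρ : Representation ℤ G A) :
    ∃ (Q : Type) (_ : AddCommGroup Q) (P : Type) (_ : AddCommGroup P)
      (_ : Module.Finite ℤ Q) (_ : Module.Free ℤ Q) (_ : Module.Finite ℤ P) (_ : Module.Free ℤ P)
      (σ : Representation ℤ G Q) (τ : Representation ℤ G P) (i : Q →ₗ[ℤ] P) (π : P →ₗ[ℤ] A),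
      GLat.IsEquivariant σ τ i ∧ GLat.IsEquivariant τ ρ π ∧ Function.Injective i ∧
      Function.Surjective π ∧ LinearMap.range i = LinearMap.ker π ∧ GLat.IsPermutation τ ∧
      GLat.IsCoflasque σ := by
  classical
  obtain ⟨ι, hι, act, v, hv, hcov⟩ := exists_cover G A ρ
  let _ := Fintype.ofFinite ι
  let τ := permRep G ι
  let π : (ι → ℤ) →ₗ[ℤ] A := Fintype.linearCombination ℤ v
  have hπ1 : ∀ i, π (Pi.single i 1) = v i := fun i => by
    rw [Fintype.linearCombination_apply_single, one_smul]
  have hπ : IsEquivariant τ ρ π := by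
    intro g m
    have h : π ∘ₗ τ g = ρ g ∘ₗ π := (Pi.basisFun ℤ ι).ext fun i => by
      rw [LinearMap.comp_apply, LinearMap.comp_apply, Pi.basisFun_apply, permRep_single, hπ1, hπ1,
        hv]
    exact LinearMap.congr_fun h m
  let Q := LinearMap.ker π
  have hQ : ∀ g, Q ≤ Q.comap (τ g) := fun g x hx => by
    rw [Submodule.mem_comap, LinearMap.mem_ker, hπ, LinearMap.mem_ker.1 hx, map_zero]
  -- surjectivity on invariants
  have hinv : ∀ (H : Subgroup G) (x : A), (∀ h : H, ρ (h : G) x = x) →
      ∃ p : ι → ℤ, (∀ h : H, τ (h : G) p = p) ∧ π p = x := by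
    intro H x hx
    refine Submodule.span_induction (p := fun x _ => ∃ p : ι → ℤ, (∀ h : H, τ (h : G) p = p) ∧
      π p = x) ?_ ?_ ?_ ?_ (hcov H x hx)
    · rintro _ ⟨i, hi, rfl⟩
      exact ⟨Pi.single i 1, fun h => by rw [permRep_single, hi h], hπ1 i⟩
    · exact ⟨0, fun h => map_zero _, map_zero _⟩
    · rintro x y _ _ ⟨p, hp, rfl⟩ ⟨q, hq, rfl⟩
      exact ⟨p + q, fun h => by rw [map_add, hp, hq], map_add _ _ _⟩
    · rintro a x _ ⟨p, hp, rfl⟩
      exact ⟨a • p, fun h => by rw [map_smul, hp], map_smul _ _ _⟩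
  refine ⟨Q, inferInstance, ι → ℤ, inferInstance, inferInstance, inferInstance, inferInstance,
    inferInstance, τ.subrepresentation Q hQ, τ, Q.subtype, π, fun g m => rfl, hπ,
    Subtype.val_injective, ?_, Submodule.range_subtype _, isPermutation_permRep, ?_⟩
  · intro x
    obtain ⟨p, -, hp⟩ := hinv ⊥ x (fun h => by
      rw [Subgroup.mem_bot.1 h.2, map_one]; rfl)
    exact ⟨p, hp⟩
  · intro H f hf
    obtain ⟨p, hp⟩ := perm_coflasque (ρ := τ) isPermutation_permRep H (fun a => (f a : ι → ℤ))
      (fun a b => congrArg Subtype.val (hf a b))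
    have h1 : ∀ h : H, ρ (h : G) (π p) = π p := by
      intro h
      have h2 := congrArg π (hp h)
      rw [map_sub, hπ] at h2
      have h3 : π (f h : ι → ℤ) = 0 := (f h).2
      rw [h3] at h2
      exact (sub_eq_zero.1 h2.symm)
    obtain ⟨q, hq, hqp⟩ := hinv H (π p) h1
    have hmem : p - q ∈ Q := by
      rw [LinearMap.mem_ker, map_sub, hqp, sub_self]
    refine ⟨⟨p - q, hmem⟩, fun a => Subtype.ext ?_⟩
    have h4 : (f a : ι → ℤ) = τ (a : G) (p - q) - (p - q) := by
      rw [hp a, map_sub, hq a]
      abel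
    exact h4

end K974.Cover
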