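import Groth.Agent.GLat.K974.Cover

/-!
# Flasque resolutions and their variants
-/

set_option autoImplicit false

namespace K974.Embed

open GLat K974.Perm K974.Cover

/-- `0 → A → P → F → 0` with `P` permutation and `F` flasque. -/
theorem exists_flasque_resolution (G : Type) [Group G] [Finite G]
    (A : Type) [AddCommGroup A] [Module.Finite ℤ A] [Module.Free ℤ A] (ρ : Representation ℤ G A) :
    ∃ (P : Type) (_ : AddCommGroup P) (F : Type) (_ : AddCommGroup F)
      (_ : Module.Finite ℤ P) (_ : Module.Free ℤ P) (_ : Module.Finite ℤ F) (_ : Module.Free ℤ F)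
      (σ : Representation ℤ G P) (τ : Representation ℤ G F) (i : A →ₗ[ℤ] P) (π : P →ₗ[ℤ] F),
      GLat.IsEquivariant ρ σ i ∧ GLat.IsEquivariant σ τ π ∧ Function.Injective i ∧
      Function.Surjective π ∧ LinearMap.range i = LinearMap.ker π ∧ GLat.IsPermutation σ ∧
      GLat.IsFlasque τ := by
  classical
  obtain ⟨ι, hι, act, v, hv, hcov⟩ := exists_cover G (Module.Dual ℤ A) ρ.dual
  let _ := Fintype.ofFinite ι
  let σ := permRep G ι
  let i : A →ₗ[ℤ] (ι → ℤ) := LinearMap.pi v
  have hi1 : ∀ (a : A) (j : ι), i a j = v j a := fun a j => rfl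
  have hi : IsEquivariant ρ σ i := by
    intro g m
    funext j
    rw [permRep_apply, hi1, hi1, hv]
    change v j (ρ g m) = v j (ρ (g⁻¹)⁻¹ m)
    rw [inv_inv]
  -- values of functionals on `a` are controlled by `i a`
  have hall : ∀ (φ : Module.Dual ℤ A), φ ∈ Submodule.span ℤ (Set.range v) := by
    intro φ
    have h := hcov ⊥ φ (fun h => by rw [Subgroup.mem_bot.1 h.2, map_one]; rfl)
    exact Submodule.span_mono (by rintro _ ⟨j, _, rfl⟩; exact ⟨j, rfl⟩) h
  have hinj : Function.Injective i := by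
    rw [injective_iff_map_eq_zero]
    intro a ha
    rw [← Module.forall_dual_apply_eq_zero_iff ℤ a]
    intro φ
    refine Submodule.span_induction (p := fun φ _ => φ a = 0) ?_ ?_ ?_ ?_ (hall φ)
    · rintro _ ⟨j, rfl⟩
      exact congrFun ha j
    · rfl
    · intro x y _ _ hx hy
      rw [LinearMap.add_apply, hx, hy, add_zero]
    · intro c x _ hx
      rw [LinearMap.smul_apply, hx, smul_zero]
  -- divisibility
  have hdiv : ∀ (n : ℤ) (a : A), n ≠ 0 → (∀ φ : Module.Dual ℤ A, n ∣ φ a) → ∃ a', a = n • a' := by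
    intro n a _ h
    let b := Module.Free.chooseBasis ℤ A
    choose c hc using fun j => h (b.coord j)
    refine ⟨∑ j, c j • b j, ?_⟩
    conv_lhs => rw [← b.sum_repr a]
    rw [Finset.smul_sum]
    refine Finset.sum_congr rfl fun j _ => ?_
    rw [smul_smul, ← hc j]
    rfl
  let N := LinearMap.range i
  have hN : ∀ g, N ≤ N.comap (σ g) := by
    rintro g _ ⟨a, rfl⟩
    exact ⟨ρ g a, hi g a⟩
  let τ := σ.quotient N hN
  have hπ : IsEquivariant σ τ N.mkQ := fun g m => rfl
  -- torsion freeness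
  have htf : Module.IsTorsionFree ℤ ((ι → ℤ) ⧸ N) := by
    rw [Module.isTorsionFree_iff_smul_eq_zero]
    intro n m hnm
    obtain ⟨p, rfl⟩ := N.mkQ_surjective m
    by_cases hn : n = 0
    · exact Or.inl hn
    right
    rw [← map_smul, Submodule.mkQ_apply, Submodule.Quotient.mk_eq_zero] at hnm
    obtain ⟨a, ha⟩ := hnm
    obtain ⟨a', rfl⟩ := hdiv n a hn (fun φ => by
      refine Submodule.span_induction (p := fun φ _ => n ∣ φ a) ?_ ?_ ?_ ?_ (hall φ)
      · rintro _ ⟨j, rfl⟩
        exact ⟨p j, congrFun ha j⟩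
      · exact ⟨0, by rw [mul_zero]; rfl⟩
      · intro x y _ _ hx hy
        rw [LinearMap.add_apply]
        exact dvd_add hx hy
      · intro c x _ hx
        rw [LinearMap.smul_apply]
        exact Dvd.dvd.mul_left hx c)
    rw [Submodule.mkQ_apply, Submodule.Quotient.mk_eq_zero]
    refine ⟨a', ?_⟩
    rw [map_smul] at ha
    exact smul_right_injective _ hn ha
  refine ⟨ι → ℤ, inferInstance, (ι → ℤ) ⧸ N, inferInstance, inferInstance, inferInstance,
    inferInstance, inferInstance, σ, τ, i, N.mkQ, hi, hπ, hinj, N.mkQ_surjective,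
    (N.ker_mkQ).symm, isPermutation_permRep, ?_⟩
  rw [isFlasque_iff]
  intro H m hm
  obtain ⟨p, rfl⟩ := N.mkQ_surjective m
  rw [← map_nm H hπ, Submodule.mkQ_apply, Submodule.Quotient.mk_eq_zero] at hm
  obtain ⟨a, ha⟩ := hm
  -- `a` is a norm
  have hcard : ∀ (x : A), (∀ h : H, ρ (h : G) x = x) → nm ρ H x = (Nat.card H : ℤ) • x := by
    intro x hx
    let _ := Fintype.ofFinite H
    rw [nm_apply, finsum_eq_sum_of_fintype, Finset.sum_congr rfl (fun h _ => hx h),
      Finset.sum_const, Finset.card_univ, natCast_zsmul, Nat.card_eq_fintype_card]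
  have hinva : ∀ h : H, ρ (h : G) a = a := by
    intro h
    apply hinj
    rw [hi, ha, rho_nm]
  have hnorm : ∃ a', nm ρ H a' = a := by
    by_contra hcon
    have hne : Submodule.Quotient.mk (p := LinearMap.range (nm ρ H)) a ≠ 0 := by
      intro h
      rw [Submodule.Quotient.mk_eq_zero] at h
      exact hcon h
    obtain ⟨χ, hχ⟩ := CharacterModule.exists_character_apply_ne_zero_of_ne_zero hne
    -- lift the character to `A → ℚ`
    let b := Module.Free.chooseBasis ℤ A
    let χ' : A →ₗ[ℤ] AddCircle (1 : ℚ) :=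
      (AddMonoidHom.toIntLinearMap χ) ∘ₗ (LinearMap.range (nm ρ H)).mkQ
    have hsurj : Function.Surjective (QuotientAddGroup.mk : ℚ → AddCircle (1 : ℚ)) :=
      QuotientAddGroup.mk_surjective
    choose l hl using fun j => hsurj (χ' (b j))
    let ψ : A →ₗ[ℤ] ℚ := b.constr ℤ l
    have hψ : ∀ x, (QuotientAddGroup.mk (ψ x) : AddCircle (1 : ℚ)) = χ' x := by
      intro x
      let q : ℚ →ₗ[ℤ] AddCircle (1 : ℚ) :=
        (QuotientAddGroup.mk' (AddSubgroup.zmultiples (1 : ℚ))).toIntLinearMap
      have h1 : q ∘ₗ ψ = χ' := b.ext fun j => by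
        rw [LinearMap.comp_apply, b.constr_basis]
        exact hl j
      exact LinearMap.congr_fun h1 x
    -- `ψ ∘ N_H` takes integral values
    have hint : ∀ x, ∃ z : ℤ, (z : ℚ) = ψ (nm ρ H x) := by
      intro x
      have h1 : χ' (nm ρ H x) = 0 := by
        have h2 : (LinearMap.range (nm ρ H)).mkQ (nm ρ H x) = 0 := by
          rw [Submodule.mkQ_apply, Submodule.Quotient.mk_eq_zero]
          exact ⟨x, rfl⟩
        change χ ((LinearMap.range (nm ρ H)).mkQ (nm ρ H x)) = 0
        rw [h2, map_zero]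
      rw [← hψ, QuotientAddGroup.eq_zero_iff, AddSubgroup.mem_zmultiples_iff] at h1
      obtain ⟨z, hz⟩ := h1
      exact ⟨z, by rw [← hz, zsmul_eq_mul, mul_one]⟩
    choose z hz using hint
    let φ : Module.Dual ℤ A :=
      { toFun := z
        map_add' := fun x y => by
          have : ((z (x + y) : ℤ) : ℚ) = ((z x + z y : ℤ) : ℚ) := by
            rw [hz, map_add, map_add, Int.cast_add, hz, hz]
          exact_mod_cast this
        map_smul' := fun c x => by
          have : ((z (c • x) : ℤ) : ℚ) = ((c * z x : ℤ) : ℚ) := by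
            rw [hz, map_smul, map_smul, Int.cast_mul, hz, zsmul_eq_mul]
          exact_mod_cast this }
    have hφ : ∀ x, ((φ x : ℤ) : ℚ) = ψ (nm ρ H x) := hz
    have hφinv : ∀ h : H, ρ.dual (h : G) φ = φ := by
      intro h
      refine LinearMap.ext fun x => ?_
      have h1 : ((φ (ρ ((h⁻¹ : H) : G) x) : ℤ) : ℚ) = ((φ x : ℤ) : ℚ) := by
        rw [hφ, hφ, nm_rho]
      have h2 : φ (ρ ((h⁻¹ : H) : G) x) = φ x := by exact_mod_cast h1
      exact h2
    -- `φ a` is divisible by `|H|`
    have hdvd : (Nat.card H : ℤ) ∣ φ a := by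
      refine Submodule.span_induction (p := fun φ _ => (Nat.card H : ℤ) ∣ φ a) ?_ ?_ ?_ ?_
        (hcov H φ hφinv)
      · rintro _ ⟨j, hj, rfl⟩
        refine ⟨p j, ?_⟩
        have h1 : i a j = nm σ H p j := congrFun ha j
        rw [hi1] at h1
        rw [h1, nm_apply]
        let _ := Fintype.ofFinite H
        rw [finsum_eq_sum_of_fintype, Finset.sum_apply]
        have h2 : ∀ h : H, σ (h : G) p j = p j := by
          intro h
          rw [permRep_apply]
          have h3 := hj h⁻¹
          rw [Subgroup.coe_inv] at h3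
          rw [h3]
        rw [Finset.sum_congr rfl (fun h _ => h2 h), Finset.sum_const, Finset.card_univ,
          nsmul_eq_mul, Nat.card_eq_fintype_card]
      · exact ⟨0, by rw [mul_zero]; rfl⟩
      · intro x y _ _ hx hy
        rw [LinearMap.add_apply]
        exact dvd_add hx hy
      · intro c x _ hx
        rw [LinearMap.smul_apply]
        exact Dvd.dvd.mul_left hx c
    obtain ⟨w, hw⟩ := hdvd
    have h1 : ((Nat.card H : ℤ) : ℚ) * w = ((Nat.card H : ℤ) : ℚ) * ψ a := by
      rw [← Int.cast_mul, ← hw, hφ, hcard a hinva, map_smul, zsmul_eq_mul]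
    have hcne : ((Nat.card H : ℤ) : ℚ) ≠ 0 := by
      exact_mod_cast Nat.card_pos.ne'
    have h2 : (w : ℚ) = ψ a := mul_left_cancel₀ hcne h1
    apply hχ
    change χ' a = 0
    rw [← hψ, ← h2, QuotientAddGroup.eq_zero_iff, AddSubgroup.mem_zmultiples_iff]
    exact ⟨w, by rw [zsmul_eq_mul, mul_one]⟩
  obtain ⟨a', ha'⟩ := hnorm
  have hfl := (isFlasque_iff σ).1 (perm_flasque (ρ := σ) isPermutation_permRep) H (p - i a') (by
    rw [map_sub, ← map_nm H hi, ha', ha, sub_self])
  have h5 := map_aug H hπ hfl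
  have h6 : N.mkQ (p - i a') = N.mkQ p := by
    rw [map_sub, Submodule.mkQ_apply _ (i a'), (Submodule.Quotient.mk_eq_zero N).2 ⟨a', rfl⟩,
      sub_zero]
  rwa [h6] at h5

end K974.Embed
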