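import Groth.Prelude.Def_W4c5flasquetoriphsGLat
import Mathlib.RepresentationTheory.Basic
import Mathlib.LinearAlgebra.Basis.Basic
import Mathlib.LinearAlgebra.StdBasis
import Mathlib.RingTheory.Finiteness.Cardinality
import Mathlib.GroupTheory.GroupAction.Basic
import Mathlib.GroupTheory.OrderOfElement
import Mathlib.Algebra.Module.Torsion.Free

/-!
# Permutation lattices are flasque and coflasque; extensions
-/

set_option autoImplicit false

namespace K974.Perm

open GLat

section Norm

variable {G : Type*} [Group G] [Finite G] {M N : Type*} [AddCommGroup M] [AddCommGroup N]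
  (ρ : Representation ℤ G M) (σ : Representation ℤ G N) (H : Subgroup G)

/-- The norm endomorphism `∑_{h ∈ H} h`. -/
noncomputable def nm : M →ₗ[ℤ] M :=
  letI := Fintype.ofFinite H
  ∑ h : H, ρ (h : G)

lemma nm_apply (m : M) : nm ρ H m = ∑ᶠ h : H, ρ (h : G) m := by
  let _ := Fintype.ofFinite H
  rw [finsum_eq_sum_of_fintype, nm, LinearMap.sum_apply]

/-- The augmentation submodule `I_H M`. -/
def aug : Submodule ℤ M := Submodule.span ℤ {x : M | ∃ (h : H) (y : M), x = ρ (h : G) y - y}

lemma isFlasque_iff : IsFlasque ρ ↔ ∀ (H : Subgroup G) (m : M), nm ρ H m = 0 → m ∈ aug ρ H := by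
  unfold IsFlasque
  simp only [nm_apply]
  rfl

lemma nm_rho (h : H) (y : M) : nm ρ H (ρ (h : G) y) = nm ρ H y := by
  rw [nm_apply, nm_apply, ← finsum_comp_equiv (Equiv.mulRight h) (f := fun x : H => ρ (x : G) y)]
  refine finsum_congr fun x => ?_
  rw [Equiv.coe_mulRight, Subgroup.coe_mul, map_mul, Module.End.mul_apply]

lemma rho_nm (h : H) (y : M) : ρ (h : G) (nm ρ H y) = nm ρ H y := by
  let _ := Fintype.ofFinite H
  rw [nm_apply, finsum_eq_sum_of_fintype, map_sum,
    ← Equiv.sum_comp (Equiv.mulLeft h) (fun x : H => ρ (x : G) y)]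
  refine Finset.sum_congr rfl fun x _ => ?_
  rw [Equiv.coe_mulLeft, Subgroup.coe_mul, map_mul, Module.End.mul_apply]

lemma nm_aug {x : M} (hx : x ∈ aug ρ H) : nm ρ H x = 0 := by
  refine Submodule.span_induction (p := fun x _ => nm ρ H x = 0) ?_ ?_ ?_ ?_ hx
  · rintro _ ⟨h, y, rfl⟩
    rw [map_sub, nm_rho, sub_self]
  · exact map_zero _
  · intro x y _ _ hx hy
    rw [map_add, hx, hy, add_zero]
  · intro a x _ hx
    rw [map_smul, hx, smul_zero]

variable {ρ σ}

lemma map_nm {f : M →ₗ[ℤ] N} (hf : IsEquivariant ρ σ f) (m : M) :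
    f (nm ρ H m) = nm σ H (f m) := by
  let _ := Fintype.ofFinite H
  rw [nm_apply, nm_apply, finsum_eq_sum_of_fintype, finsum_eq_sum_of_fintype, map_sum]
  exact Finset.sum_congr rfl fun x _ => hf _ _

omit [Finite G] in
lemma map_aug {f : M →ₗ[ℤ] N} (hf : IsEquivariant ρ σ f) {m : M} (hm : m ∈ aug ρ H) :
    f m ∈ aug σ H := by
  refine Submodule.span_induction (p := fun x _ => f x ∈ aug σ H) ?_ ?_ ?_ ?_ hm
  · rintro _ ⟨h, y, rfl⟩
    exact Submodule.subset_span ⟨h, f y, by rw [map_sub, hf]⟩
  · rw [map_zero]; exact zero_mem _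
  · intro x y _ _ hx hy
    rw [map_add]; exact add_mem hx hy
  · intro a x _ hx
    rw [map_smul]; exact Submodule.smul_mem _ _ hx

omit [Finite G] in
lemma exists_aug_of_surjective {f : M →ₗ[ℤ] N} (hf : IsEquivariant ρ σ f)
    (hs : Function.Surjective f) {n : N} (hn : n ∈ aug σ H) :
    ∃ m ∈ aug ρ H, f m = n := by
  refine Submodule.span_induction (p := fun x _ => ∃ m ∈ aug ρ H, f m = x) ?_ ?_ ?_ ?_ hn
  · rintro _ ⟨h, y, rfl⟩
    obtain ⟨z, rfl⟩ := hs y
    exact ⟨ρ (h : G) z - z, Submodule.subset_span ⟨h, z, rfl⟩, by rw [map_sub, hf]⟩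
  · exact ⟨0, zero_mem _, map_zero _⟩
  · rintro x y _ _ ⟨m, hm, rfl⟩ ⟨m', hm', rfl⟩
    exact ⟨m + m', add_mem hm hm', map_add _ _ _⟩
  · rintro a x _ ⟨m, hm, rfl⟩
    exact ⟨a • m, Submodule.smul_mem _ _ hm, map_smul _ _ _⟩

end Norm

section Extension

variable {G : Type*} [Group G] {X Y Z : Type*} [AddCommGroup X] [AddCommGroup Y]
  [AddCommGroup Z] {ρX : Representation ℤ G X} {ρY : Representation ℤ G Y}
  {ρZ : Representation ℤ G Z} {i : X →ₗ[ℤ] Y} {p : Y →ₗ[ℤ] Z}

/-- An extension of coflasque modules is coflasque. -/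
theorem coflasque_of_exact (hi : IsEquivariant ρX ρY i) (hp : IsEquivariant ρY ρZ p)
    (hinj : Function.Injective i) (hsurj : Function.Surjective p)
    (hex : LinearMap.range i = LinearMap.ker p) (hX : IsCoflasque ρX) (hZ : IsCoflasque ρZ) :
    IsCoflasque ρY := by
  intro H f hf
  obtain ⟨z, hz⟩ := hZ H (fun a => p (f a)) (fun a b => by rw [hf, map_add, hp])
  obtain ⟨y, rfl⟩ := hsurj z
  have h1 : ∀ a : H, ∃ x : X, i x = f a - (ρY (a : G) y - y) := by
    intro a
    have h2 : f a - (ρY (a : G) y - y) ∈ LinearMap.range i := by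
      rw [hex, LinearMap.mem_ker, map_sub, map_sub, hp, hz a, sub_self]
    exact h2
  choose g hg using h1
  obtain ⟨x, hx⟩ := hX H g (fun a b => by
    apply hinj
    rw [map_add, hi, hg, hg, hg, hf, Subgroup.coe_mul, map_mul, Module.End.mul_apply]
    simp only [map_sub]
    abel)
  refine ⟨y + i x, fun a => ?_⟩
  have h3 := hg a
  rw [hx a, map_sub, hi] at h3
  rw [map_add]
  rw [eq_sub_iff_add_eq] at h3
  rw [← h3]
  abel

/-- An extension of flasque modules is flasque. -/
theorem flasque_of_exact [Finite G] (hi : IsEquivariant ρX ρY i) (hp : IsEquivariant ρY ρZ p)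
    (hinj : Function.Injective i) (hsurj : Function.Surjective p)
    (hex : LinearMap.range i = LinearMap.ker p) (hX : IsFlasque ρX) (hZ : IsFlasque ρZ) :
    IsFlasque ρY := by
  rw [isFlasque_iff] at hX hZ ⊢
  intro H y hy
  have h1 : nm ρZ H (p y) = 0 := by rw [← map_nm H hp, hy, map_zero]
  obtain ⟨y', hy', hpy⟩ := exists_aug_of_surjective H hp hsurj (hZ H _ h1)
  have h2 : y - y' ∈ LinearMap.range i := by
    rw [hex, LinearMap.mem_ker, map_sub, hpy, sub_self]
  obtain ⟨x, hx⟩ := h2
  have h3 : nm ρX H x = 0 := by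
    apply hinj
    rw [map_zero, map_nm H hi, hx, map_sub, hy, nm_aug ρY H hy', sub_zero]
  have h4 := map_aug H hi (hX H x h3)
  rw [hx] at h4
  have h5 := add_mem h4 hy'
  rwa [sub_add_cancel] at h5

end Extension

section Permutation

variable {G : Type*} [Group G] [Finite G] {M : Type*} [AddCommGroup M]
  {ρ : Representation ℤ G M}

/-- A permutation lattice is coflasque. -/
theorem perm_coflasque [Module.Finite ℤ M] (hρ : IsPermutation ρ) : IsCoflasque ρ := by
  classical
  intro H f hf
  obtain ⟨ι, b, hb⟩ := hρ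
  have _ : Finite ι := Module.Finite.finite_basis b
  let _ := Fintype.ofFinite ι
  choose σ hσ using hb
  have hσ1 : ∀ i, σ 1 i = i := fun i => b.injective (by rw [← hσ, map_one]; rfl)
  have hσmul : ∀ g h i, σ (g * h) i = σ g (σ h i) := fun g h i => b.injective (by
    rw [← hσ, map_mul, Module.End.mul_apply, hσ, hσ])
  have hσinj : ∀ g, Function.Injective (σ g) := fun g i j hij => by
    have := congrArg (σ g⁻¹) hij
    rwa [← hσmul, ← hσmul, inv_mul_cancel, hσ1, hσ1] at this
  have hrepr : ∀ (g : G) (x : M) (i : ι), b.repr (ρ g x) (σ g i) = b.repr x i := by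
    intro g x i
    have h : (Finsupp.lapply (σ g i) ∘ₗ b.repr.toLinearMap ∘ₗ ρ g) =
        (Finsupp.lapply i ∘ₗ b.repr.toLinearMap) := by
      refine b.ext fun j => ?_
      simp only [LinearMap.comp_apply, LinearEquiv.coe_coe, hσ, Module.Basis.repr_self,
        Finsupp.lapply_apply, Finsupp.single_apply, (hσinj g).eq_iff]
    exact LinearMap.congr_fun h x
  let _ : MulAction H ι :=
    { smul := fun h i => σ (h : G) i
      one_smul := fun i => hσ1 i
      mul_smul := fun g h i => hσmul g h i }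
  have hsm : ∀ (h : H) (i : ι), h • i = σ (h : G) i := fun _ _ => rfl
  -- coordinates of the cocycle
  set c : H → ι → ℤ := fun a i => b.repr (f a) i with hc
  have hcc : ∀ (a a' : H) (i : ι), c (a * a') (a • i) = c a (a • i) + c a' i := by
    intro a a' i
    simp only [hc]
    rw [hf, map_add, Finsupp.add_apply, hsm, hrepr]
  -- representatives
  let r : ι → ι := fun i => (Quotient.mk (MulAction.orbitRel H ι) i).out
  have hr : ∀ i, ∃ g : H, g • r i = i := by
    intro i
    have h : (MulAction.orbitRel H ι) i (r i) := by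
      have h' : (MulAction.orbitRel H ι) (r i) i :=
        Quotient.exact (Quotient.out_eq (Quotient.mk (MulAction.orbitRel H ι) i))
      exact (MulAction.orbitRel H ι).symm h'
    exact h
  have hrsm : ∀ (h : H) (i : ι), r (h • i) = r i := by
    intro h i
    have h1 : (Quotient.mk (MulAction.orbitRel H ι) (h • i)) =
        (Quotient.mk (MulAction.orbitRel H ι) i) := Quotient.sound ⟨h, rfl⟩
    simp only [r, h1]
  choose g hg using hr
  have hc1 : ∀ i, c 1 i = 0 := by
    intro i
    have h := hcc 1 1 i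
    rw [one_smul, mul_one] at h
    linarith
  have hstab : ∀ (s : H) (i : ι), s • i = i → c s i = 0 := by
    intro s i hs
    have h1 : ∀ n : ℕ, c (s ^ n) i = n * c s i := by
      intro n
      induction n with
      | zero => rw [pow_zero, hc1, Nat.cast_zero, zero_mul]
      | succ n ih =>
        have h2 := hcc s (s ^ n) i
        rw [hs, ← pow_succ', ih] at h2
        rw [h2, Nat.cast_succ]
        ring
    obtain ⟨n, hn, hsn⟩ := (isOfFinOrder_of_finite s).exists_pow_eq_one
    have h2 := h1 n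
    rw [hsn, hc1] at h2
    rcases mul_eq_zero.1 h2.symm with h | h
    · exact absurd (Nat.cast_eq_zero.1 h) hn.ne'
    · exact h
  have key : ∀ (a : H) (i : ι), c a (a • i) = c (g (a • i)) (a • i) - c (g i) i := by
    intro a i
    set s : H := (g (a • i))⁻¹ * a * g i with hs
    have h1 : s • r i = r i := by
      rw [hs, mul_smul, mul_smul, hg, inv_smul_eq_iff, ← hrsm a i, hg]
    have h2 : a * g i = g (a • i) * s := by
      rw [hs, ← mul_assoc, ← mul_assoc, mul_inv_cancel, one_mul]
    have h3 := hcc a (g i) i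
    have h4 := hcc (g (a • i)) s (r i)
    have h5 : g (a • i) • r i = a • i := by rw [← hrsm a i, hg]
    rw [h5, ← h2, hstab s _ h1, h3, add_zero] at h4
    linarith
  refine ⟨-∑ i, c (g i) i • b i, fun a => b.repr.injective (Finsupp.ext fun j => ?_)⟩
  have hm : ∀ i, b.repr (-∑ i, c (g i) i • b i) i = - c (g i) i := by
    intro i
    rw [map_neg, Finsupp.neg_apply, b.repr_sum_self]
  have hj : j = a • (a⁻¹ • j) := (smul_inv_smul a j).symm
  rw [map_sub, Finsupp.sub_apply]
  rw [hj, hm, hsm a (a⁻¹ • j), hrepr, hm, ← hsm]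
  have := key a (a⁻¹ • j)
  simp only [hc] at this ⊢
  rw [this]
  ring

/-- A permutation module is flasque. -/
theorem perm_flasque (hρ : IsPermutation ρ) : IsFlasque ρ := by
  classical
  rw [isFlasque_iff]
  intro H m hm
  obtain ⟨ι, b, hb⟩ := hρ
  choose σ hσ using hb
  have hσ1 : ∀ i, σ 1 i = i := fun i => b.injective (by rw [← hσ, map_one]; rfl)
  have hσmul : ∀ g h i, σ (g * h) i = σ g (σ h i) := fun g h i => b.injective (by
    rw [← hσ, map_mul, Module.End.mul_apply, hσ, hσ])
  let _ : MulAction H ι :=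
    { smul := fun h i => σ (h : G) i
      one_smul := fun i => hσ1 i
      mul_smul := fun g h i => hσmul g h i }
  have hsm : ∀ (h : H) (i : ι), h • i = σ (h : G) i := fun _ _ => rfl
  let r : ι → ι := fun i => (Quotient.mk (MulAction.orbitRel H ι) i).out
  have hr : ∀ i, ∃ g : H, g • r i = i := by
    intro i
    have h : (MulAction.orbitRel H ι) i (r i) := by
      have h' : (MulAction.orbitRel H ι) (r i) i :=
        Quotient.exact (Quotient.out_eq (Quotient.mk (MulAction.orbitRel H ι) i))
      exact (MulAction.orbitRel H ι).symm h'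
    exact h
  have hrsm : ∀ (h : H) (i : ι), r (h • i) = r i := by
    intro h i
    have h1 : (Quotient.mk (MulAction.orbitRel H ι) (h • i)) =
        (Quotient.mk (MulAction.orbitRel H ι) i) := Quotient.sound ⟨h, rfl⟩
    simp only [r, h1]
  let R : M →ₗ[ℤ] M := b.constr ℤ (fun i => b (r i))
  have hR : ∀ i, R (b i) = b (r i) := fun i => b.constr_basis ℤ _ i
  have hRρ : ∀ (h : H) (x : M), R (ρ (h : G) x) = R x := by
    intro h x
    have h1 : R ∘ₗ ρ (h : G) = R := b.ext fun i => by
      rw [LinearMap.comp_apply, hσ, hR, hR, ← hsm, hrsm]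
    exact LinearMap.congr_fun h1 x
  have hsub : ∀ x : M, x - R x ∈ aug ρ H := by
    intro x
    have h1 : ∀ i, b i - R (b i) ∈ aug ρ H := by
      intro i
      obtain ⟨g, hg⟩ := hr i
      refine Submodule.subset_span ⟨g, b (r i), ?_⟩
      rw [hR, hσ, ← hsm, hg]
    have h2 : Submodule.map (LinearMap.id - R) ⊤ ≤ aug ρ H := by
      rw [← b.span_eq, Submodule.map_span_le]
      rintro _ ⟨i, rfl⟩
      exact h1 i
    exact h2 ⟨x, trivial, rfl⟩
  have hRm : R m = 0 := by
    have : Module.Free ℤ M := Module.Free.of_basis b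
    let _ := Fintype.ofFinite H
    have h1 : R (nm ρ H m) = 0 := by rw [hm, map_zero]
    rw [nm_apply, finsum_eq_sum_of_fintype, map_sum, Finset.sum_congr rfl (fun h _ => hRρ h m),
      Finset.sum_const, Finset.card_univ] at h1
    have h2 : (Fintype.card H : ℤ) • R m = 0 := by rw [natCast_zsmul]; exact h1
    rcases smul_eq_zero.1 h2 with h | h
    · exact absurd (Nat.cast_eq_zero.1 h) Fintype.card_ne_zero
    · exact h
  have := hsub m
  rwa [hRm, sub_zero] at this

end Permutation

end K974.Perm
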