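import Groth.Agent.GLat.K974.Embed
import Mathlib.LinearAlgebra.Prod

/-!
# Pushouts and pullbacks of resolutions
-/

set_option autoImplicit false

namespace K974.PushPull

open GLat K974.Perm K974.Cover K974.Embed

/-- The product representation. -/
def prodRep {G : Type*} [Group G] {X Y : Type*} [AddCommGroup X] [AddCommGroup Y]
    (ρ : Representation ℤ G X) (σ : Representation ℤ G Y) : Representation ℤ G (X × Y) where
  toFun g := (ρ g).prodMap (σ g)
  map_one' := by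
    rw [map_one, map_one]; rfl
  map_mul' g h := by
    rw [map_mul, map_mul]; rfl

lemma prodRep_apply {G : Type*} [Group G] {X Y : Type*} [AddCommGroup X] [AddCommGroup Y]
    (ρ : Representation ℤ G X) (σ : Representation ℤ G Y) (g : G) (x : X × Y) :
    prodRep ρ σ g x = (ρ g x.1, σ g x.2) := rfl

/-- `0 → A → Q → P → 0` with `Q` coflasque and `P` permutation. -/
theorem exists_coflasque_resolution (G : Type) [Group G] [Finite G]
    (A : Type) [AddCommGroup A] [Module.Finite ℤ A] [Module.Free ℤ A] (ρ : Representation ℤ G A) :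
    ∃ (Q : Type) (_ : AddCommGroup Q) (P : Type) (_ : AddCommGroup P)
      (_ : Module.Finite ℤ Q) (_ : Module.Free ℤ Q) (_ : Module.Finite ℤ P) (_ : Module.Free ℤ P)
      (σ : Representation ℤ G Q) (τ : Representation ℤ G P) (i : A →ₗ[ℤ] Q) (π : Q →ₗ[ℤ] P),
      GLat.IsEquivariant ρ σ i ∧ GLat.IsEquivariant σ τ π ∧ Function.Injective i ∧
      Function.Surjective π ∧ LinearMap.range i = LinearMap.ker π ∧ GLat.IsCoflasque σ ∧
      GLat.IsPermutation τ := by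
  obtain ⟨P0, _, M, _, _, _, _, _, σ0, τM, i0, π0, hi0, hπ0, hi0inj, hπ0surj, hex0, hperm0, -⟩ :=
    exists_flasque_resolution G A ρ
  obtain ⟨Q', _, P, _, _, _, _, _, σ', τ, i', π', hi', hπ', hi'inj, hπ'surj, hex', hperm, hcofl⟩ :=
    exists_coflasque_cover G M τM
  have hex0' : ∀ x, π0 x = 0 ↔ ∃ a, i0 a = x := fun x => by
    rw [← LinearMap.mem_ker, ← hex0, LinearMap.mem_range]
  have hex'' : ∀ x, π' x = 0 ↔ ∃ a, i' a = x := fun x => by
    rw [← LinearMap.mem_ker, ← hex', LinearMap.mem_range]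
  let d : P0 × P →ₗ[ℤ] M := π0 ∘ₗ LinearMap.fst ℤ P0 P - π' ∘ₗ LinearMap.snd ℤ P0 P
  have hd : ∀ x, d x = π0 x.1 - π' x.2 := fun _ => rfl
  let Q := LinearMap.ker d
  have hmem : ∀ x : P0 × P, x ∈ Q ↔ π0 x.1 = π' x.2 := fun x => by
    rw [LinearMap.mem_ker, hd, sub_eq_zero]
  have hQ : ∀ g, Q ≤ Q.comap (prodRep σ0 τ g) := fun g x hx => by
    rw [Submodule.mem_comap, hmem, prodRep_apply, hπ0, hπ', (hmem x).1 hx]
  let σ := (prodRep σ0 τ).subrepresentation Q hQ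
  have hσ : ∀ g (x : Q), ((σ g x : Q) : P0 × P) = (σ0 g x.1.1, τ g x.1.2) := fun g x => rfl
  let i : A →ₗ[ℤ] Q := LinearMap.codRestrict Q (LinearMap.inl ℤ P0 P ∘ₗ i0) (fun a => by
    rw [hmem]
    change π0 (i0 a) = π' 0
    rw [map_zero, hex0']
    exact ⟨a, rfl⟩)
  have hi : ∀ a, ((i a : Q) : P0 × P) = (i0 a, 0) := fun a => rfl
  let π : Q →ₗ[ℤ] P := LinearMap.snd ℤ P0 P ∘ₗ Q.subtype
  have hπ : ∀ x : Q, π x = x.1.2 := fun _ => rfl
  let j : Q' →ₗ[ℤ] Q := LinearMap.codRestrict Q (LinearMap.inr ℤ P0 P ∘ₗ i') (fun a => by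
    rw [hmem]
    change π0 0 = π' (i' a)
    rw [map_zero, eq_comm, hex'']
    exact ⟨a, rfl⟩)
  have hj : ∀ a, ((j a : Q) : P0 × P) = (0, i' a) := fun a => rfl
  let μ : Q →ₗ[ℤ] P0 := LinearMap.fst ℤ P0 P ∘ₗ Q.subtype
  have hμ : ∀ x : Q, μ x = x.1.1 := fun _ => rfl
  refine ⟨Q, inferInstance, P, inferInstance, inferInstance, inferInstance, inferInstance,
    inferInstance, σ, τ, i, π, ?_, ?_, ?_, ?_, ?_, ?_, hperm⟩
  · intro g m
    apply Subtype.ext
    rw [hi, hσ, hi, hi0, map_zero]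
  · intro g x
    rw [hπ, hπ, hσ]
  · intro a b hab
    have := congrArg (fun x : Q => x.1.1) hab
    exact hi0inj this
  · intro p
    obtain ⟨q, hq⟩ := hπ0surj (π' p)
    exact ⟨⟨(q, p), (hmem _).2 hq⟩, rfl⟩
  · ext x
    rw [LinearMap.mem_range, LinearMap.mem_ker, hπ]
    constructor
    · rintro ⟨a, rfl⟩
      rfl
    · intro hx
      have h1 := (hmem x.1).1 x.2
      rw [hx, map_zero, hex0'] at h1
      obtain ⟨a, ha⟩ := h1
      exact ⟨a, Subtype.ext (Prod.ext ha hx.symm)⟩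
  · refine coflasque_of_exact (ρX := σ') (ρY := σ) (ρZ := σ0) (i := j) (p := μ) ?_ ?_ ?_ ?_ ?_
      hcofl (perm_coflasque hperm0)
    · intro g m
      apply Subtype.ext
      rw [hj, hσ, hj, hi', map_zero]
    · intro g x
      rw [hμ, hμ, hσ]
    · intro a b hab
      have := congrArg (fun x : Q => x.1.2) hab
      exact hi'inj this
    · intro p
      obtain ⟨q, hq⟩ := hπ'surj (π0 p)
      exact ⟨⟨(p, q), (hmem _).2 hq.symm⟩, rfl⟩
    · ext x
      rw [LinearMap.mem_range, LinearMap.mem_ker, hμ]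
      constructor
      · rintro ⟨a, rfl⟩
        rfl
      · intro hx
        have h1 := (hmem x.1).1 x.2
        rw [hx, map_zero, eq_comm, hex''] at h1
        obtain ⟨a, ha⟩ := h1
        exact ⟨a, Subtype.ext (Prod.ext hx.symm ha)⟩

/-- `0 → P → F → A → 0` with `P` permutation and `F` flasque. -/
theorem exists_flasque_cover (G : Type) [Group G] [Finite G]
    (A : Type) [AddCommGroup A] [Module.Finite ℤ A] (ρ : Representation ℤ G A) :
    ∃ (P : Type) (_ : AddCommGroup P) (F : Type) (_ : AddCommGroup F)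
      (_ : Module.Finite ℤ P) (_ : Module.Free ℤ P) (_ : Module.Finite ℤ F) (_ : Module.Free ℤ F)
      (σ : Representation ℤ G P) (τ : Representation ℤ G F) (i : P →ₗ[ℤ] F) (π : F →ₗ[ℤ] A),
      GLat.IsEquivariant σ τ i ∧ GLat.IsEquivariant τ ρ π ∧ Function.Injective i ∧
      Function.Surjective π ∧ LinearMap.range i = LinearMap.ker π ∧ GLat.IsPermutation σ ∧
      GLat.IsFlasque τ := by
  obtain ⟨M, _, P0, _, _, _, _, _, σM, τ0, i0, π0, hi0, hπ0, hi0inj, hπ0surj, hex0, hperm0, -⟩ :=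
    exists_coflasque_cover G A ρ
  obtain ⟨P, _, F', _, _, _, _, _, σ, τ', i1, π1, hi1, hπ1, hi1inj, hπ1surj, hex1, hperm, hfl⟩ :=
    exists_flasque_resolution G M σM
  have hex0' : ∀ x, π0 x = 0 ↔ ∃ a, i0 a = x := fun x => by
    rw [← LinearMap.mem_ker, ← hex0, LinearMap.mem_range]
  have hex1' : ∀ x, π1 x = 0 ↔ ∃ a, i1 a = x := fun x => by
    rw [← LinearMap.mem_ker, ← hex1, LinearMap.mem_range]
  let d : M →ₗ[ℤ] P × P0 := LinearMap.prod i1 (-i0)
  have hd : ∀ m, d m = (i1 m, -i0 m) := fun _ => rfl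
  let N := LinearMap.range d
  have hmem : ∀ x : P × P0, x ∈ N ↔ ∃ m, i1 m = x.1 ∧ -i0 m = x.2 := fun x => by
    rw [LinearMap.mem_range]
    constructor
    · rintro ⟨m, rfl⟩
      exact ⟨m, rfl, rfl⟩
    · rintro ⟨m, h1, h2⟩
      exact ⟨m, Prod.ext h1 h2⟩
  have hN : ∀ g, N ≤ N.comap (prodRep σ τ0 g) := fun g x hx => by
    rw [Submodule.mem_comap, hmem, prodRep_apply]
    obtain ⟨m, h1, h2⟩ := (hmem x).1 hx
    refine ⟨σM g m, ?_, ?_⟩
    · rw [hi1, h1]
    · rw [hi0, ← map_neg, h2]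
  let F := (P × P0) ⧸ N
  let τ := (prodRep σ τ0).quotient N hN
  have hτ : ∀ g (x : P × P0), τ g (N.mkQ x) = N.mkQ (σ g x.1, τ0 g x.2) := fun g x => rfl
  have hzero : ∀ x : P × P0, N.mkQ x = 0 ↔ ∃ m, i1 m = x.1 ∧ -i0 m = x.2 := fun x => by
    rw [Submodule.mkQ_apply, Submodule.Quotient.mk_eq_zero, hmem]
  let i : P →ₗ[ℤ] F := N.mkQ ∘ₗ LinearMap.inl ℤ P P0
  have hi : ∀ x, i x = N.mkQ (x, 0) := fun _ => rfl
  let j : P0 →ₗ[ℤ] F := N.mkQ ∘ₗ LinearMap.inr ℤ P P0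
  have hj : ∀ x, j x = N.mkQ (0, x) := fun _ => rfl
  let π : F →ₗ[ℤ] A := N.liftQ (π0 ∘ₗ LinearMap.snd ℤ P P0) (fun x hx => by
    obtain ⟨m, h1, h2⟩ := (hmem x).1 hx
    rw [LinearMap.mem_ker]
    change π0 x.2 = 0
    rw [hex0']
    exact ⟨-m, by rw [map_neg, h2]⟩)
  have hπ : ∀ x : P × P0, π (N.mkQ x) = π0 x.2 := fun _ => rfl
  let μ : F →ₗ[ℤ] F' := N.liftQ (π1 ∘ₗ LinearMap.fst ℤ P P0) (fun x hx => by
    obtain ⟨m, h1, h2⟩ := (hmem x).1 hx
    rw [LinearMap.mem_ker]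
    change π1 x.1 = 0
    rw [hex1']
    exact ⟨m, h1⟩)
  have hμ : ∀ x : P × P0, μ (N.mkQ x) = π1 x.1 := fun _ => rfl
  have hjinj : Function.Injective j := by
    rw [injective_iff_map_eq_zero]
    intro x hx
    rw [hj, hzero] at hx
    obtain ⟨m, h1, h2⟩ := hx
    have h3 : m = 0 := hi1inj (by rw [h1, map_zero])
    rw [h3, map_zero, neg_zero] at h2
    exact h2.symm
  have hexμ : LinearMap.range j = LinearMap.ker μ := by
    ext y
    obtain ⟨x, rfl⟩ := N.mkQ_surjective y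
    rw [LinearMap.mem_range, LinearMap.mem_ker, hμ, hex1']
    constructor
    · rintro ⟨p, hp⟩
      rw [hj, ← sub_eq_zero, ← map_sub, hzero] at hp
      obtain ⟨m, h1, -⟩ := hp
      refine ⟨-m, ?_⟩
      rw [map_neg, h1]
      simp
    · rintro ⟨m, hm⟩
      refine ⟨x.2 + i0 m, ?_⟩
      rw [hj, ← sub_eq_zero, ← map_sub, hzero]
      refine ⟨-m, ?_, ?_⟩
      · rw [map_neg, hm]; simp
      · rw [map_neg]; simp
  have htf : Module.IsTorsionFree ℤ F := by
    rw [Module.isTorsionFree_iff_smul_eq_zero]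
    intro n y hny
    by_cases hn : n = 0
    · exact Or.inl hn
    right
    have h1 : n • μ y = 0 := by rw [← map_smul, hny, map_zero]
    have h2 : μ y = 0 := (smul_eq_zero.1 h1).resolve_left hn
    rw [← LinearMap.mem_ker, ← hexμ] at h2
    obtain ⟨p, rfl⟩ := h2
    have h3 : n • p = 0 := hjinj (by rw [map_smul, hny, map_zero])
    rw [(smul_eq_zero.1 h3).resolve_left hn, map_zero]
  refine ⟨P, inferInstance, F, inferInstance, inferInstance, inferInstance, inferInstance,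
    inferInstance, σ, τ, i, π, ?_, ?_, ?_, ?_, ?_, hperm, ?_⟩
  · intro g m
    rw [hi, hi, hτ, map_zero]
  · intro g y
    obtain ⟨x, rfl⟩ := N.mkQ_surjective y
    rw [hτ, hπ, hπ, hπ0]
  · rw [injective_iff_map_eq_zero]
    intro x hx
    rw [hi, hzero] at hx
    obtain ⟨m, h1, h2⟩ := hx
    have h3 : m = 0 := hi0inj (by rw [map_zero, ← neg_eq_zero, h2])
    rw [h3, map_zero] at h1
    exact h1.symm
  · intro a
    obtain ⟨p, rfl⟩ := hπ0surj a
    exact ⟨N.mkQ (0, p), rfl⟩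
  · ext y
    obtain ⟨x, rfl⟩ := N.mkQ_surjective y
    rw [LinearMap.mem_range, LinearMap.mem_ker, hπ, hex0']
    constructor
    · rintro ⟨p, hp⟩
      rw [hi, ← sub_eq_zero, ← map_sub, hzero] at hp
      obtain ⟨m, -, h2⟩ := hp
      refine ⟨m, ?_⟩
      rw [neg_eq_iff_eq_neg] at h2
      rw [h2]
      simp
    · rintro ⟨m, hm⟩
      refine ⟨x.1 + i1 m, ?_⟩
      rw [hi, ← sub_eq_zero, ← map_sub, hzero]
      refine ⟨m, ?_, ?_⟩
      · simp
      · simp [hm]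
  · refine flasque_of_exact (ρX := τ0) (ρY := τ) (ρZ := τ') (i := j) (p := μ) ?_ ?_ hjinj ?_ hexμ
      (perm_flasque hperm0) hfl
    · intro g m
      rw [hj, hj, hτ, map_zero]
    · intro g y
      obtain ⟨x, rfl⟩ := N.mkQ_surjective y
      rw [hτ, hμ, hμ, hπ1]
    · intro z
      obtain ⟨p, rfl⟩ := hπ1surj z
      exact ⟨N.mkQ (p, 0), rfl⟩

end K974.PushPull
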